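import Mathlib
import Cfsg.Agent.S0000
import Cfsg.Agent.H254.CopAll
import Cfsg.Agent.H309.NS.Gen
import Cfsg.Agent.H17.NS.SzGood
import Cfsg.Agent.H22.Mix.KF

/-!
# The facts on the simple sections, from the classification
-/

set_option autoImplicit false
set_option linter.unusedSectionVars false

namespace Cfsg.Agent.H22.Mix

open Subgroup
open Cfsg (IsElementaryAbelian IsSignalizerFunctor signalizerInf piCoreOf)
open Cfsg.Agent.H309.NS (Mem Comp MinC CommGen AllGood)

universe u

theorem allGood (p : ℕ) [hp : Fact p.Prime] : AllGood.{u} p := by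
  intro H _ _ hpH K _ h1 h2 ⟨U, f, hf⟩ B hB
  have hfin : Finite K := Finite.of_surjective f hf
  have hpK : ¬ p ∣ Nat.card K := fun h =>
    hpH ((h.trans (card_dvd_of_surjective f hf)).trans (card_subgroup_dvd_card U))
  have hpB : IsPGroup p B := by
    rintro ⟨σ, hσ⟩
    refine ⟨1, ?_⟩
    rw [pow_one]
    exact Subtype.ext (hB.2 σ hσ)
  have hco : (Nat.card B).Coprime (Nat.card K) := by
    obtain ⟨n, hn⟩ := IsPGroup.iff_card.mp hpB
    rw [hn]
    exact Nat.Coprime.pow_left n ((Nat.Prime.coprime_iff_not_dvd hp.out).mpr hpK)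
  have hcyc : IsCyclic B := Cfsg.Agent.H254.CopAll.known K h2 Cfsg.Agent.S0000.result B hco
  rw [← IsCyclic.exponent_eq_card (α := B)]
  refine Nat.le_of_dvd hp.out.pos (Monoid.exponent_dvd_of_forall_pow_eq_one fun b => ?_)
  exact Subtype.ext (hB.2 b b.2)

theorem kf {G : Type u} [Group G] [Finite G] (A : Subgroup G) (θ : G → Subgroup G) : KF A θ := by
  have : Fact (Nat.Prime 3) := ⟨Nat.prime_three⟩
  refine ⟨fun V hV => ⟨hV.cop, allGood 3 V hV.cop, H17.NS.allNS_three hV.cop, H17.NS.SzGood.allGd_three hV.cop⟩,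
    fun V hV q hq _ => H17.NS.allTt_three hV.cop hq, fun V hV q _ _ h5 => H17.NS.unMk_three hV.cop h5⟩

end Cfsg.Agent.H22.Mix
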