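import Mathlib
import Cfsg.Agent.H22.Mix.Facts
import Cfsg.Agent.H22.Mix.Simp
import Cfsg.Agent.H22.Mix.Int3
import Cfsg.Agent.H538.Mix.PW
import Cfsg.Agent.H8.NS.R4

/-!
# The mixed case, `p = 3`

`mix_of` : piece R5 implies that there is no minimal counterexample with `θ(A)` not solvable.
-/

set_option autoImplicit false
set_option linter.unusedSectionVars false

namespace Cfsg.Agent.H22.Mix

open Subgroup
open Cfsg (IsElementaryAbelian IsSignalizerFunctor signalizerInf piCoreOf)
open Cfsg.Agent.H309.NS (Mem Comp MinC CommGen CommGenAt)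

universe u

theorem mix_of (r5 : R5.{u}) {G : Type u} [Group G] [Finite G] {A : Subgroup G} {θ : G → Subgroup G}
    (h : MinC 3 A θ) (hns : ¬ Group.IsSolvable (signalizerInf A θ)) : False := by
  have : Fact (Nat.Prime 3) := ⟨Nat.prime_three⟩
  have hk := kf A θ
  have hCG : CommGenAt 3 G := (H309.NS.commGen le_rfl (allGood 3)).at G
  obtain ⟨N, hN, hinf⟩ := exists_mixN h hk.hy hns
  have hW := H538.Mix.pw G A θ N hN hCG hk
  have hK := mixK_of hW hk hinf
  have hO := H538.Mix.r3 G A θ N hW
  have hy := hk.hy N hN.mem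
  have h5 := H8.NS.r4 hK hy.good hy.ns (comp_simple hN.mem.cop (hO 2 Nat.prime_two (by norm_num))) hO
  refine r5 G A θ N hK fun q hq => ?_
  by_cases hq5 : q = 5
  · rw [hq5]; exact h5
  · exact hO q hq hq5

end Cfsg.Agent.H22.Mix
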